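import Groth.Agent.Misc7.Magnet.Points
import Groth.Agent.MiscGeom.MagnetBase
import Groth.Agent.NeronArea.EtaleDense
import Groth.Agent.AlgSp2.SmoothDescent
import Groth.Prelude.Def_Magnet3

/-!
# Equivariant maps for actions of the affine line which are étale near the fixed locus
-/

set_option autoImplicit false
universe u

open CategoryTheory CategoryTheory.Limits MonoidalCategory CartesianMonoidalCategory MonObj AlgebraicGeometry Opposite
open Magnet Topology
open scoped Polynomial

noncomputable section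

namespace Groth.Misc7.Mag

section Laurent

theorem smooth_laurent (R : Type u) [CommRing R] :
    Algebra.Smooth R (MonoidAlgebra R (Multiplicative ℤ)) := by
  have h1 : Algebra.Smooth R[X] (LaurentPolynomial R) :=
    Algebra.Smooth.of_isLocalization_Away (Polynomial.X : R[X])
  have : Algebra.Smooth R R[X] :=
    { finitePresentation := Algebra.FinitePresentation.equiv (MvPolynomial.uniqueAlgEquiv.{_, 0} R PUnit) }
  have : IsScalarTower R R[X] (LaurentPolynomial R) := IsScalarTower.of_algebraMap_eq fun r => by simp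
  have : Algebra.Smooth R (LaurentPolynomial R) := Algebra.Smooth.comp R R[X] (LaurentPolynomial R)
  exact Algebra.Smooth.of_equiv (AddMonoidAlgebra.toMultiplicativeAlgEquiv R R ℤ)

end Laurent

variable {S : Scheme.{u}}

instance smooth_amonS_int : Smooth (AMonS S ℤ).hom := by
  have h : Smooth (AMon (ULift.{u} ℤ) ℤ).hom := by
    have := smooth_laurent (ULift.{u} ℤ)
    exact (HasRingHomProperty.Spec_iff (P := @Smooth)).2 (RingHom.smooth_algebraMap.2 this)
  exact MorphismProperty.pullback_snd _ _ h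

section Act

variable {X Y : Over S} {B : CommRingCat.{u}} {s : Spec B ⟶ S}

/-- The point of the affine line with coordinate `b`. -/
def natPt (s : Spec B ⟶ S) (b : B) : Over.mk s ⟶ AMonS S ℕ := specMk s (powersHom B b)

lemma specVal_natPt (s : Spec B ⟶ S) (b : B) (n : ℕ) : specVal s (natPt s b) n = b ^ n := by
  rw [natPt, specVal_specMk]
  rfl

lemma natPt_mul (s : Spec B ⟶ S) (b c : B) : natPt s b * natPt s c = natPt s (b * c) :=
  specVal_ext s fun n => by rw [specVal_mul, specVal_natPt, specVal_natPt, specVal_natPt, mul_pow]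

lemma natPt_one (s : Spec B ⟶ S) : natPt s (1 : B) = 1 := by
  have h : natPt s (1 : B) * 1 = natPt s (1 : B) := _root_.mul_one _
  refine specVal_ext s fun n => ?_
  have h2 := congrArg (fun x => specVal s x n) h
  simp only [specVal_mul, specVal_natPt, one_pow, one_mul] at h2
  rw [specVal_natPt, one_pow]
  exact h2.symm.trans (_root_.one_mul _)

/-- The action of an affine point of the affine line. -/
def smulPt (a : MonAct (AMonS S ℕ) X) (b : B) (z : Over.mk s ⟶ X) : Over.mk s ⟶ X :=
  lift (natPt s b) z ≫ a.act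

variable (a : MonAct (AMonS S ℕ) X) (a' : MonAct (AMonS S ℕ) Y)

lemma smulPt_smulPt (b c : B) (z : Over.mk s ⟶ X) : smulPt a b (smulPt a c z) = smulPt a (b * c) z := by
  rw [smulPt, smulPt, smulPt, ← natPt_mul, MonAct.lift_mul_act]

lemma smulPt_one (z : Over.mk s ⟶ X) : smulPt a (1 : B) z = z := by
  rw [smulPt, natPt_one, MonAct.lift_one_act]

lemma smulPt_comp {f : X ⟶ Y} (hf : MonAct.IsEquivariant a a' f) (b : B) (z : Over.mk s ⟶ X) :
    smulPt a b z ≫ f = smulPt a' b (z ≫ f) := by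
  rw [smulPt, smulPt, Category.assoc]
  exact (MonAct.isEquivariant_iff a a' f).1 hf _ _ _

/-- Base change of affine test objects. -/
def bcMap {B' : CommRingCat.{u}} (φ : B ⟶ B') (s : Spec B ⟶ S) : Over.mk (Spec.map φ ≫ s) ⟶ Over.mk s :=
  Over.homMk (Spec.map φ)

lemma comp_smulPt {B' : CommRingCat.{u}} {s' : Spec B' ⟶ S} (φ : B ⟶ B') (g : Over.mk s' ⟶ Over.mk s)
    (hg : g.left = Spec.map φ) (b : B) (z : Over.mk s ⟶ X) :
    g ≫ smulPt a b z = smulPt a (φ b) (g ≫ z) := by
  rw [smulPt, smulPt, comp_lift_assoc]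
  congr 2
  refine specVal_ext s' fun n => ?_
  rw [specVal_comp _ _ φ g hg, specVal_natPt, specVal_natPt, map_pow]

/-- `0 • z` is fixed. -/
def zeroPt (z : Over.mk s ⟶ X) : (MonAct.fixedPsh a).obj (op (Over.mk s)) :=
  ⟨smulPt a (0 : B) z, fun T' t g => by
    have e : g * (t ≫ natPt s (0 : B)) = t ≫ natPt s (0 : B) := val_ext fun n => by
      rw [val_mul]
      rcases Nat.eq_zero_or_pos n with rfl | hn
      · rw [val_zero, val_zero, _root_.mul_one]
      · have : val (natPt s (0 : B)) n = 0 := by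
          refine (ConcreteCategory.bijective_of_isIso (Scheme.ΓSpecIso B).hom).1 ?_
          rw [map_zero]
          exact (specVal_natPt s 0 n).trans (zero_pow hn.ne')
        rw [val_comp, this, map_zero, mul_zero]
    rw [smulPt, comp_lift_assoc, ← MonAct.lift_mul_act, e]⟩

end Act

section Line

variable {X Y : Over S} (a : MonAct (AMonS S ℕ) X) (b : MonAct (AMonS S ℕ) Y)
  {K : Type u} [Field K] {s : Spec (CommRingCat.of K) ⟶ S}

/-- `K → K[X]`. -/
def cstK (K : Type u) [Field K] : CommRingCat.of K ⟶ CommRingCat.of K[X] := CommRingCat.ofHom Polynomial.C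

/-- evaluation `K[X] → K`. -/
def evK {K : Type u} [Field K] (t : K) : CommRingCat.of K[X] ⟶ CommRingCat.of K :=
  CommRingCat.ofHom (Polynomial.evalRingHom t)

lemma cstK_evK (t : K) : cstK K ≫ evK t = 𝟙 _ :=
  CommRingCat.hom_ext (RingHom.ext fun c => by simp [cstK, evK])

/-- A point of the line. -/
def evPt {K : Type u} [Field K] (t : K) : Spec (CommRingCat.of K[X]) :=
  Spec.map (evK t) (IsLocalRing.closedPoint K)

/-- The line through a point. -/
def line (z : Over.mk s ⟶ X) : Spec (CommRingCat.of K[X]) ⟶ X.left :=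
  (smulPt a (Polynomial.X : K[X]) (bcMap (cstK K) s ≫ z)).left

lemma evK_line (t : K) (z : Over.mk s ⟶ X) : Spec.map (evK t) ≫ line a z = (smulPt a t z).left := by
  let g : Over.mk s ⟶ Over.mk (Spec.map (cstK K) ≫ s) := Over.homMk (Spec.map (evK t)) (by
    show Spec.map (evK t) ≫ Spec.map (cstK K) ≫ s = s
    rw [← Spec.map_comp_assoc, cstK_evK, Spec.map_id, Category.id_comp])
  have hid : g ≫ bcMap (cstK K) s = 𝟙 _ := Over.OverMorphism.ext (by
    show Spec.map (evK t) ≫ Spec.map (cstK K) = 𝟙 _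
    rw [← Spec.map_comp, cstK_evK, Spec.map_id]
    try rfl)
  have h := comp_smulPt a (evK t) g rfl (Polynomial.X : K[X]) (bcMap (cstK K) s ≫ z)
  rw [← Category.assoc, hid, Category.id_comp] at h
  refine (congrArg CommaMorphism.left h).trans ?_
  simp [evK]

lemma line_evPt (t : K) (z : Over.mk s ⟶ X) :
    line a z (evPt t) = (smulPt a t z).left (IsLocalRing.closedPoint K) := by
  rw [evPt, ← Scheme.Hom.comp_apply, evK_line]
  try rfl

lemma exists_ne_zero_mem [Infinite K] (W : Set (Spec (CommRingCat.of K[X]))) (hW : IsOpen W) (h0 : evPt 0 ∈ W) :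
    (∃ t : K, t ≠ 0 ∧ evPt t ∈ W) ∧ (⟨⊥, Ideal.isPrime_bot⟩ : PrimeSpectrum K[X]) ∈ W := by
  classical
  obtain ⟨_, ⟨g, rfl⟩, hg0, hgU⟩ :=
    PrimeSpectrum.isTopologicalBasis_basic_opens.exists_subset_of_mem_open h0 hW
  have key : ∀ t : K, evPt t ∈ (PrimeSpectrum.basicOpen g : Set (PrimeSpectrum K[X])) ↔ g.eval t ≠ 0 := by
    intro t
    change g ∉ Ideal.comap (evK t).hom (IsLocalRing.maximalIdeal K) ↔ _
    simp [evK]
  have hg : g.eval 0 ≠ 0 := (key 0).1 hg0
  have hgne : g ≠ 0 := fun e => hg (by simp [e])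
  obtain ⟨z, hz⟩ := Infinite.exists_notMem_finset (insert (0 : K) g.roots.toFinset)
  simp only [Finset.mem_insert, Multiset.mem_toFinset, not_or, Polynomial.mem_roots', not_and] at hz
  exact ⟨⟨z, hz.1, hgU ((key z).2 (hz.2 hgne))⟩, hgU (show g ∉ (⊥ : Ideal K[X]) from hgne)⟩

/-- Translation along the torus. -/
def shear {G X : Over S} (h : G ⟶ AMonS S ℕ) (a : MonAct (AMonS S ℕ) X) : G ⊗ X ⟶ G ⊗ X :=
  lift (fst G X) (lift (fst G X ≫ h) (snd G X) ≫ a.act)

variable (S) in
/-- `Gm → A¹`. -/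
def toLine : AMonS S ℤ ⟶ AMonS S ℕ := AMonS.map S (Nat.castAddMonoidHom ℤ)

variable (S) in
/-- `Gm → A¹`, the inverse. -/
def toLineInv : AMonS S ℤ ⟶ AMonS S ℕ := AMonS.map S (-(Nat.castAddMonoidHom ℤ))

lemma toLine_mul_inv {T : Over S} (g : T ⟶ AMonS S ℤ) :
    (g ≫ toLine S) * (g ≫ toLineInv S) = 1 ∧ (g ≫ toLineInv S) * (g ≫ toLine S) = 1 := by
  have h1 : ∀ n : ℕ, val (1 : T ⟶ AMonS S ℕ) n = 1 := fun n => by
    have h := val_mul (1 : T ⟶ AMonS S ℕ) (g ≫ toLine S) n
    rw [_root_.one_mul] at h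
    have hu : IsUnit (val (g ≫ toLine S) n) := by
      refine IsUnit.of_mul_eq_one (val g (-(n : ℤ))) ?_
      rw [toLine, val_map, ← val_add]
      simp [val_zero]
    exact hu.mul_eq_right.1 h.symm
  constructor <;> refine val_ext fun n => ?_ <;>
    rw [val_mul, toLine, toLineInv, val_map, val_map, ← val_add, h1] <;> simp [val_zero]

theorem isIso_shear_toLine (a : MonAct (AMonS S ℕ) X) : IsIso (shear (toLine S) a) := by
  refine ⟨shear (toLineInv S) a, ?_, ?_⟩ <;>
  · refine hom_ext_lift₂ fun T g z => ?_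
    simp only [shear, comp_lift_assoc, comp_lift, lift_fst, lift_snd, lift_fst_assoc, Category.comp_id]
    rw [← MonAct.lift_mul_act]
    first
      | rw [(toLine_mul_inv g).2, MonAct.lift_one_act]
      | rw [(toLine_mul_inv g).1, MonAct.lift_one_act]

theorem shear_comp {G : Over S} (h : G ⟶ AMonS S ℕ) {f : X ⟶ Y} (hf : MonAct.IsEquivariant a b f) :
    shear h a ≫ (G ◁ f) = (G ◁ f) ≫ shear h b := by
  refine hom_ext_lift₂ fun T g z => ?_
  simp only [shear, comp_lift_assoc, comp_lift, lift_fst, lift_snd, lift_fst_assoc, lift_whiskerLeft,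
    lift_whiskerLeft_assoc, Category.assoc]
  congr 1
  rw [(MonAct.isEquivariant_iff a b f).1 hf]

end Line

section Main

variable {X Y : Over S} (a : MonAct (AMonS S ℕ) X) (b : MonAct (AMonS S ℕ) Y)
  (f : X ⟶ Y) (hf : MonAct.IsEquivariant a b f) (h1 : IsIso (MonAct.fixedPsh.map f hf))
  (V : X.left.Opens) [Etale (V.ι ≫ f.left)]
  (h3 : ∀ (T : Over S) (x : (MonAct.fixedPsh a).obj (op T)), x.1.left ⁻¹ᵁ V = ⊤)

include h3 in
lemma zero_smul_mem {K : Type u} [Field K] {s : Spec (CommRingCat.of K) ⟶ S} (z : Over.mk s ⟶ X) :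
    (smulPt a (0 : K) z).left (IsLocalRing.closedPoint K) ∈ V :=
  (h3 _ (zeroPt a z)).ge (Set.mem_univ (IsLocalRing.closedPoint K))

lemma exists_fieldPt {Z : Scheme.{u}} (z : Z) :
    ∃ (K : Type u) (_ : Field K) (_ : IsAlgClosed K) (g : Spec (CommRingCat.of K) ⟶ Z),
      ∀ w, g w = z := by
  let K := AlgebraicClosure (Z.residueField z)
  exact ⟨K, inferInstance, inferInstance,
    Spec.map (CommRingCat.ofHom (algebraMap (Z.residueField z) K)) ≫ Z.fromSpecResidueField z,
    fun w => by rw [Scheme.Hom.comp_apply, Scheme.fromSpecResidueField_apply]⟩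

include h3 in
theorem dense_V : Dense (V : Set X.left) := by
  rw [dense_iff_inter_open]
  rintro O hO ⟨x, hx⟩
  obtain ⟨K, _, _, g, hg⟩ := exists_fieldPt x
  let z : Over.mk (g ≫ X.hom) ⟶ X := Over.homMk g
  have h0 : evPt 0 ∈ line a z ⁻¹' V := by
    show line a z (evPt 0) ∈ V
    rw [line_evPt]
    exact zero_smul_mem a V h3 z
  obtain ⟨-, hgen⟩ := exists_ne_zero_mem _ (V.2.preimage (line a z).continuous) h0
  have hx1 : line a z (evPt 1) = x := by
    rw [line_evPt, smulPt_one]; exact hg _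
  refine ⟨_, ?_, hgen⟩
  refine Specializes.mem_open ?_ hO hx
  rw [← hx1]
  exact ((PrimeSpectrum.le_iff_specializes ⟨⊥, Ideal.isPrime_bot⟩ (evPt 1)).1 bot_le).map (line a z).continuous

include hf h1 h3 in
theorem fieldPt_injective {K : Type u} [Field K] [Infinite K] {s : Spec (CommRingCat.of K) ⟶ S}
    (z₁ z₂ : Over.mk s ⟶ X) (h : z₁ ≫ f = z₂ ≫ f) : z₁ = z₂ := by
  have hbij : Function.Bijective ((MonAct.fixedPsh.map f hf).app (op (Over.mk s))) :=
    (ConcreteCategory.isIso_iff_bijective _).1 inferInstance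
  have h0 : smulPt a (0 : K) z₁ = smulPt a (0 : K) z₂ := congrArg Subtype.val
    (hbij.1 (a₁ := zeroPt a z₁) (a₂ := zeroPt a z₂) (Subtype.ext (by
      show smulPt a (0 : K) z₁ ≫ f = smulPt a (0 : K) z₂ ≫ f
      rw [smulPt_comp a b hf, smulPt_comp a b hf, h])))
  let O : (Spec (CommRingCat.of K[X])).Opens := line a z₁ ⁻¹ᵁ V ⊓ line a z₂ ⁻¹ᵁ V
  have hlift : ∀ z : Over.mk s ⟶ X, O ≤ line a z ⁻¹ᵁ V →
      ∃ d : (O : Scheme.{u}) ⟶ (V : Scheme.{u}), d ≫ V.ι = O.ι ≫ line a z := fun z hz =>
    ⟨IsOpenImmersion.lift V.ι (O.ι ≫ line a z) (by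
      rintro _ ⟨q, rfl⟩
      rw [Scheme.Opens.range_ι]
      exact hz q.2), IsOpenImmersion.lift_fac _ _ _⟩
  obtain ⟨d₁, hd₁⟩ := hlift z₁ inf_le_left
  obtain ⟨d₂, hd₂⟩ := hlift z₂ inf_le_right
  have hlines : line a z₁ ≫ f.left = line a z₂ ≫ f.left := by
    rw [line, line, ← Over.comp_left, ← Over.comp_left, smulPt_comp a b hf, smulPt_comp a b hf,
      Category.assoc, Category.assoc, h]
  have hd : d₁ ≫ V.ι ≫ f.left = d₂ ≫ V.ι ≫ f.left := by
    rw [← Category.assoc, hd₁, ← Category.assoc, hd₂, Category.assoc, Category.assoc, hlines]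
  let e := pullback.fst (pullback.lift d₁ d₂ hd) (pullback.diagonal (V.ι ≫ f.left))
  have he : (e ≫ O.ι) ≫ line a z₁ = (e ≫ O.ι) ≫ line a z₂ := by
    rw [Category.assoc, Category.assoc, ← hd₁, ← hd₂, ← Category.assoc, ← Category.assoc]
    congr 1
    have hc := pullback.condition (f := pullback.lift d₁ d₂ hd) (g := pullback.diagonal (V.ι ≫ f.left))
    have e1 := congrArg (· ≫ pullback.fst (V.ι ≫ f.left) (V.ι ≫ f.left)) hc
    have e2 := congrArg (· ≫ pullback.snd (V.ι ≫ f.left) (V.ι ≫ f.left)) hc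
    simp only [Category.assoc, pullback.lift_fst, pullback.lift_snd, pullback.diagonal_fst,
      pullback.diagonal_snd, Category.comp_id] at e1 e2
    exact e1.trans e2.symm
  have hOmem : evPt 0 ∈ O := by
    constructor <;>
    · show line a _ (evPt 0) ∈ V
      rw [line_evPt]
      exact zero_smul_mem a V h3 _
  have hrg : evPt 0 ∈ Set.range (e ≫ O.ι) := by
    let q : Spec (CommRingCat.of K) ⟶ (O : Scheme.{u}) := IsOpenImmersion.lift O.ι (Spec.map (evK 0)) (by
      rintro _ ⟨w, rfl⟩
      rw [Scheme.Opens.range_ι, Subsingleton.elim w (IsLocalRing.closedPoint K)]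
      exact hOmem)
    have hq : q ≫ O.ι = Spec.map (evK 0) := IsOpenImmersion.lift_fac _ _ _
    have hqd : q ≫ d₁ = q ≫ d₂ := by
      rw [← cancel_mono V.ι, Category.assoc, Category.assoc, hd₁, hd₂, ← Category.assoc,
        ← Category.assoc, hq, evK_line, evK_line, h0]
    let r := pullback.lift q (q ≫ d₁)
      (show q ≫ pullback.lift d₁ d₂ hd = (q ≫ d₁) ≫ pullback.diagonal (V.ι ≫ f.left) from
        pullback.hom_ext (by simp; erw [pullback.lift_fst]) (by simp [hqd]; erw [pullback.lift_snd]))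
    refine ⟨r (IsLocalRing.closedPoint K), ?_⟩
    rw [← Scheme.Hom.comp_apply, ← Category.assoc, pullback.lift_fst, hq]
    rfl
  obtain ⟨⟨t, ht, htm⟩, -⟩ := exists_ne_zero_mem _ (e ≫ O.ι).isOpenEmbedding.isOpen_range hrg
  let r : Spec (CommRingCat.of K) ⟶ _ := IsOpenImmersion.lift (e ≫ O.ι) (Spec.map (evK t)) (by
    rintro _ ⟨w, rfl⟩
    rw [Subsingleton.elim w (IsLocalRing.closedPoint K)]
    exact htm)
  have hr : r ≫ e ≫ O.ι = Spec.map (evK t) := IsOpenImmersion.lift_fac _ _ _
  have h2 : smulPt a t z₁ = smulPt a t z₂ := Over.OverMorphism.ext (by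
    rw [← evK_line, ← evK_line, ← hr]
    simp only [Category.assoc] at he ⊢
    rw [he])
  have h4 := congrArg (smulPt a t⁻¹) h2
  rwa [smulPt_smulPt, smulPt_smulPt, inv_mul_cancel₀ ht, smulPt_one, smulPt_one] at h4

include hf h1 h3 in
theorem universallyInjective_of_fixed : UniversallyInjective f.left := by
  rw [UniversallyInjective.iff_diagonal]
  refine ⟨fun q => ?_⟩
  obtain ⟨K, _, _, g, hg⟩ := exists_fieldPt q
  let s := (g ≫ pullback.fst f.left f.left) ≫ X.hom
  let z₁ : Over.mk s ⟶ X := Over.homMk (g ≫ pullback.fst f.left f.left)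
  let z₂ : Over.mk s ⟶ X := Over.homMk (g ≫ pullback.snd f.left f.left) (by
    show _ = (g ≫ pullback.fst f.left f.left) ≫ X.hom
    rw [← Over.w f, Category.assoc, Category.assoc, ← Category.assoc (pullback.fst _ _),
      pullback.condition, Category.assoc])
  have := fieldPt_injective a b f hf h1 V h3 z₁ z₂ (Over.OverMorphism.ext (by
    show (g ≫ pullback.fst f.left f.left) ≫ f.left = (g ≫ pullback.snd f.left f.left) ≫ f.left
    rw [Category.assoc, Category.assoc, pullback.condition]))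
  have he : g ≫ pullback.fst f.left f.left = g ≫ pullback.snd f.left f.left := congrArg CommaMorphism.left this
  refine ⟨(g ≫ pullback.fst f.left f.left) (IsLocalRing.closedPoint K), ?_⟩
  have hd : (g ≫ pullback.fst f.left f.left) ≫ pullback.diagonal f.left = g :=
    pullback.hom_ext (by simp) (by simp [he])
  rw [← Scheme.Hom.comp_apply, hd, hg]

include hf h1 h3 in
theorem surjective_of_fixed : Surjective f.left := by
  refine ⟨fun y => ?_⟩
  obtain ⟨K, _, _, g, hg⟩ := exists_fieldPt y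
  let w : Over.mk (g ≫ Y.hom) ⟶ Y := Over.homMk g
  obtain ⟨x0, hx0⟩ := ((ConcreteCategory.isIso_iff_bijective
    ((MonAct.fixedPsh.map f hf).app (op (Over.mk (g ≫ Y.hom))))).1 inferInstance).2 (zeroPt b w)
  have hx0' : x0.1 ≫ f = smulPt b (0 : K) w := congrArg Subtype.val hx0
  have hmem : evPt 0 ∈ line b w ⁻¹' Set.range (V.ι ≫ f.left) := by
    show line b w (evPt 0) ∈ Set.range (V.ι ≫ f.left)
    rw [line_evPt, ← hx0']
    refine ⟨⟨x0.1.left (IsLocalRing.closedPoint K), (h3 _ x0).ge (Set.mem_univ _)⟩, ?_⟩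
    rfl
  obtain ⟨⟨t, ht, ⟨v, hv⟩⟩, -⟩ :=
    exists_ne_zero_mem _ ((V.ι ≫ f.left).isOpenMap.isOpen_range.preimage (line b w).continuous) hmem
  rw [line_evPt, Scheme.Hom.comp_apply] at hv
  obtain ⟨p, -, -⟩ := Scheme.Pullback.exists_preimage_pullback (f := f.left) (g := (smulPt b t w).left)
    (V.ι v) (IsLocalRing.closedPoint K) hv
  obtain ⟨L, _, _, π, -⟩ := exists_fieldPt p
  obtain ⟨φ, hφ⟩ : ∃ φ : CommRingCat.of K ⟶ CommRingCat.of L, Spec.map φ = π ≫ pullback.snd _ _ :=
    ⟨_, Spec.map_preimage _⟩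
  let z : Over.mk (Spec.map φ ≫ g ≫ Y.hom) ⟶ X := Over.homMk (π ≫ pullback.fst _ _) (by
    show _ = Spec.map φ ≫ g ≫ Y.hom
    rw [hφ, ← Over.w f, Category.assoc, Category.assoc, ← Category.assoc (pullback.fst _ _),
      pullback.condition, Category.assoc, Over.w (smulPt b t w)]
    rfl)
  have hz : z ≫ f = bcMap φ (g ≫ Y.hom) ≫ smulPt b t w := Over.OverMorphism.ext (by
    show (π ≫ pullback.fst _ _) ≫ f.left = Spec.map φ ≫ (smulPt b t w).left
    rw [hφ, Category.assoc, Category.assoc, pullback.condition])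
  have hfin : smulPt a (φ t⁻¹) z ≫ f = bcMap φ (g ≫ Y.hom) ≫ w := by
    rw [smulPt_comp a b hf, hz, comp_smulPt b φ (bcMap φ _) rfl, smulPt_smulPt, ← map_mul,
      inv_mul_cancel₀ ht, map_one, smulPt_one]
  refine ⟨(smulPt a (φ t⁻¹) z).left (IsLocalRing.closedPoint L), ?_⟩
  rw [← Scheme.Hom.comp_apply, ← Over.comp_left, hfin]
  exact hg _

include hf h3 in
theorem smooth_of_fixed : Smooth f.left := by
  have := isIso_shear_toLine (S := S) a
  have := isIso_shear_toLine (S := S) b
  let G := AMonS S ℤ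
  have hsX : IsIso (shear (toLine S) a).left := inferInstanceAs (IsIso ((Over.forget S).map (shear (toLine S) a)))
  have hsY : IsIso (shear (toLine S) b).left := inferInstanceAs (IsIso ((Over.forget S).map (shear (toLine S) b)))
  let O := ((shear (toLine S) a).left ≫ (snd G X).left) ⁻¹ᵁ V
  have hpb := (MiscGeom.Mag.isPullback_whiskerLeft G f).flip
  have hpbV : IsPullback ((snd G X).left ∣_ V) (((snd G X).left ⁻¹ᵁ V).ι ≫ (G ◁ f).left)
      (V.ι ≫ f.left) (snd G Y).left :=
    (isPullback_morphismRestrict (snd G X).left V).paste_vert hpb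
  have hetV : Etale (((snd G X).left ⁻¹ᵁ V).ι ≫ (G ◁ f).left) :=
    MorphismProperty.of_isPullback hpbV ‹Etale (V.ι ≫ f.left)›
  have hcomp : O.ι ≫ (G ◁ f).left =
      ((shear (toLine S) a).left ∣_ ((snd G X).left ⁻¹ᵁ V)) ≫ (((snd G X).left ⁻¹ᵁ V).ι ≫ (G ◁ f).left) ≫
        inv (shear (toLine S) b).left := by
    have e := congrArg CommaMorphism.left (shear_comp a b (toLine S) hf (G := G))
    simp only [Over.comp_left] at e
    rw [Category.assoc, morphismRestrict_ι_assoc, reassoc_of% e, IsIso.hom_inv_id, Category.comp_id]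
    rfl
  have : IsIso ((shear (toLine S) a).left ∣_ ((snd G X).left ⁻¹ᵁ V)) := inferInstance
  have he1 : Etale ((shear (toLine S) a).left ∣_ ((snd G X).left ⁻¹ᵁ V)) := inferInstance
  have he2 : Etale (inv (shear (toLine S) b).left) := inferInstance
  have : Etale (O.ι ≫ (G ◁ f).left) := by
    rw [hcomp]
    exact MorphismProperty.comp_mem _ _ _ he1 (MorphismProperty.comp_mem _ _ _ hetV he2)
  have : Smooth (snd G X).left := MorphismProperty.pullback_snd _ _ inferInstance
  have : Smooth (snd G Y).left := MorphismProperty.pullback_snd _ _ inferInstance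
  have : Smooth ((O.ι ≫ (snd G X).left) ≫ f.left) := by
    rw [Category.assoc, ← Over.comp_left, ← whiskerLeft_snd, Over.comp_left, ← Category.assoc]
    infer_instance
  have : Surjective (O.ι ≫ (snd G X).left) := by
    refine ⟨fun x => ?_⟩
    obtain ⟨K, _, _, g, hg⟩ := exists_fieldPt x
    let z : Over.mk (g ≫ X.hom) ⟶ X := Over.homMk g
    have h0 : evPt 0 ∈ line a z ⁻¹' V := by
      show line a z (evPt 0) ∈ V
      rw [line_evPt]
      exact zero_smul_mem a V h3 z
    obtain ⟨⟨t, ht, htm⟩, -⟩ := exists_ne_zero_mem _ (V.2.preimage (line a z).continuous) h0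
    let γ' : Over.mk (g ≫ X.hom) ⟶ G :=
      specMk _ ((Units.coeHom K).comp (zpowersHom Kˣ (Units.mk0 t ht)))
    have hγ : γ' ≫ toLine S = natPt _ t := specVal_ext _ fun n => by
      rw [specVal_natPt, specVal, toLine, val_map, ← specVal, specVal_specMk]
      simp
    have hP : (lift γ' z ≫ shear (toLine S) a ≫ snd G X) = smulPt a t z := by
      simp only [shear, lift_snd, comp_lift_assoc, lift_fst_assoc, lift_snd, smulPt]
      rw [hγ]
    have hO : (lift γ' z).left (IsLocalRing.closedPoint K) ∈ O := by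
      show ((shear (toLine S) a).left ≫ (snd G X).left) ((lift γ' z).left (IsLocalRing.closedPoint K)) ∈ V
      rw [← Scheme.Hom.comp_apply, ← Over.comp_left, ← Over.comp_left, hP, ← line_evPt]
      exact htm
    refine ⟨⟨_, hO⟩, ?_⟩
    rw [Scheme.Hom.comp_apply]
    show (snd G X).left ((lift γ' z).left (IsLocalRing.closedPoint K)) = x
    rw [← Scheme.Hom.comp_apply, ← Over.comp_left, lift_snd]
    exact hg _
  exact Groth.AlgSp2.smooth_of_comp_surjective_smooth (O.ι ≫ (snd G X).left) f.left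

include hf h1 h3 in
theorem isIso_of_fixed : IsIso f := by
  have := smooth_of_fixed a b f hf V h3
  have := Groth.NeronArea.EtaleDense.etale_of_smooth_of_dense f.left V (dense_V a V h3)
  have := surjective_of_fixed a b f hf h1 V h3
  have := universallyInjective_of_fixed a b f hf h1 V h3
  have hs : Surjective (pullback.diagonal f.left) := (UniversallyInjective.iff_diagonal _).mp inferInstance
  have : Epi (pullback.diagonal f.left).base := (TopCat.epi_iff_surjective _).mpr hs.1
  have : IsIso (pullback.diagonal f.left) := IsOpenImmersion.isIso _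
  have : Mono f.left := (pullback.isIso_diagonal_iff _).mp inferInstance
  have : IsOpenImmersion f.left := IsOpenImmersion.of_flat_of_mono _
  have : Epi f.left.base := (TopCat.epi_iff_surjective _).mpr f.left.surjective
  have : IsIso ((Over.forget S).map f) := IsOpenImmersion.isIso f.left
  exact isIso_of_reflects_iso f (Over.forget S)

end Main

end Groth.Misc7.Mag

end
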