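import Groth.Agent.Misc7.Magnet.Points

/-!
# Equivariant maps out of the affine line are determined by the thickenings of the origin
-/

set_option autoImplicit false
universe u

open CategoryTheory CategoryTheory.Limits MonoidalCategory CartesianMonoidalCategory MonObj AlgebraicGeometry Opposite
open Magnet Topology
open scoped Polynomial

noncomputable section

namespace Groth.Misc7.Mag

section Agree

variable {S : Scheme.{u}} {X : Over S} {A : CommRingCat.{u}} {Φ₁ Φ₂ : Spec A ⟶ X.left}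
  (w : Φ₁ ≫ X.hom = Φ₂ ≫ X.hom)

/-- The locus where two maps agree. -/
def agreeSet : Set (Spec A) :=
  (pullback.lift Φ₁ Φ₂ w) ⁻¹' Set.range (pullback.diagonal X.hom)

lemma agreeSet_eq_range :
    agreeSet w = Set.range (pullback.fst (pullback.lift Φ₁ Φ₂ w) (pullback.diagonal X.hom)) :=
  (Scheme.Pullback.range_fst _ _).symm

lemma isLocallyClosed_agreeSet : IsLocallyClosed (agreeSet w) := by
  rw [agreeSet_eq_range]
  exact Scheme.Hom.isLocallyClosed_range _

lemma mem_agreeSet {Z : Scheme.{u}} (h : Z ⟶ Spec A) (e : h ≫ Φ₁ = h ≫ Φ₂) (z : Z) : h z ∈ agreeSet w := by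
  refine ⟨(h ≫ Φ₁) z, ?_⟩
  have : (h ≫ Φ₁) ≫ pullback.diagonal X.hom = h ≫ pullback.lift Φ₁ Φ₂ w :=
    pullback.hom_ext
      (by simp only [Category.assoc, pullback.diagonal_fst, Category.comp_id]; erw [pullback.lift_fst])
      (by simp only [Category.assoc, pullback.diagonal_snd, Category.comp_id, e]; erw [pullback.lift_snd])
  rw [← Scheme.Hom.comp_apply, this]
  rfl

lemma agreeSet_comp {A' : CommRingCat.{u}} (f : A ⟶ A') (w' : (Spec.map f ≫ Φ₁) ≫ X.hom = (Spec.map f ≫ Φ₂) ≫ X.hom) :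
    agreeSet w' = Spec.map f ⁻¹' agreeSet w := by
  have : pullback.lift (Spec.map f ≫ Φ₁) (Spec.map f ≫ Φ₂) w' = Spec.map f ≫ pullback.lift Φ₁ Φ₂ w :=
    pullback.hom_ext
      (by rw [Category.assoc]; erw [pullback.lift_fst, pullback.lift_fst])
      (by rw [Category.assoc]; erw [pullback.lift_snd, pullback.lift_snd])
  rw [agreeSet, this]
  rfl

/-- Two maps with closed locus of agreement which agree along a jointly injective family are equal. -/
theorem eq_of_jointlyInjective (hc : IsClosed (agreeSet w)) {I : Type*} (B : I → CommRingCat.{u})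
    (f : ∀ i, A ⟶ B i) (hf : ∀ i, Spec.map (f i) ≫ Φ₁ = Spec.map (f i) ≫ Φ₂)
    (hinj : ∀ a : A, (∀ i, f i a = 0) → a = 0) : Φ₁ = Φ₂ := by
  rw [agreeSet_eq_range] at hc
  let c := pullback.fst (pullback.lift Φ₁ Φ₂ w) (pullback.diagonal X.hom)
  have : IsClosedImmersion c := IsClosedImmersion.of_isPreimmersion c hc
  have hinj' : Function.Injective c.appTop := by
    rw [injective_iff_map_eq_zero]
    intro a ha
    refine (ConcreteCategory.bijective_of_isIso (Scheme.ΓSpecIso A).hom).1 ((hinj _ fun i => ?_).trans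
      (map_zero _).symm)
    have hk : pullback.lift (Spec.map (f i)) (Spec.map (f i) ≫ Φ₁)
        (pullback.hom_ext (by simp; erw [pullback.lift_fst]) (by simp [hf i]; erw [pullback.lift_snd])) ≫ c = Spec.map (f i) := pullback.lift_fst _ _ _
    refine (ConcreteCategory.congr_hom (Scheme.ΓSpecIso_naturality (f i)) a).symm.trans ?_
    have h0 : (Spec.map (f i)).appTop a = 0 := by
      rw [← hk, Scheme.Hom.comp_appTop, CommRingCat.comp_apply, ha, map_zero]
    show (Scheme.ΓSpecIso (B i)).hom.hom ((Spec.map (f i)).appTop a) = 0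
    rw [h0, map_zero]
  haveI : IsIso c := IsClosedImmersion.isIso_of_injective_of_isAffine hinj'
  have h := pullback.condition (f := pullback.lift Φ₁ Φ₂ w) (g := pullback.diagonal X.hom)
  have h1 := congrArg (· ≫ pullback.fst X.hom X.hom) h
  have h2 := congrArg (· ≫ pullback.snd X.hom X.hom) h
  simp only [Category.assoc, pullback.lift_fst, pullback.lift_snd, pullback.diagonal_fst,
    pullback.diagonal_snd, Category.comp_id] at h1 h2
  exact (cancel_epi c).1 (h1.trans h2.symm)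

end Agree

section Line

variable {S : Scheme.{u}} {X Y : Over S} (a : AlgGrp.Action (Red.DS S ℤ) X)
  (γ₁ γ₂ : (Magnet.attr (Magnet.MonAct.ofAction a) (AddSubmonoid.multiples (1 : ℤ))).obj (op Y))

set_option quotPrecheck false in
local notation "NN" => ↥(AddSubmonoid.multiples (1 : ℤ))

/-- The generator. -/
def gen : NN := ⟨1, AddSubmonoid.mem_multiples 1⟩

lemma nonneg_coe (n : NN) : 0 ≤ (n : ℤ) := by
  obtain ⟨j, hj⟩ := AddSubmonoid.mem_multiples_iff _ _ |>.1 n.2
  simp only [nsmul_eq_mul, mul_one] at hj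
  omega

lemma toNat_nsmul_gen (n : NN) : (n : ℤ).toNat • gen = n :=
  Subtype.ext (by simp [gen, Int.toNat_of_nonneg (nonneg_coe n)])

/-- The character taking the value `b` on the generator. -/
def powChar {B : Type u} [CommRing B] (b : B) : Multiplicative NN →* B where
  toFun n := b ^ (n.toAdd : ℤ).toNat
  map_one' := by simp
  map_mul' m n := by
    rw [← pow_add, toAdd_mul, AddSubmonoid.coe_add, Int.toNat_add (nonneg_coe _) (nonneg_coe _)]

variable {B : CommRingCat.{u}}

/-- The point with coordinate `b`. -/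
def linePt (s : Spec B ⟶ S) (b : B) : Over.mk s ⟶ AMonS S NN := specMk s (powChar b)

lemma specVal_linePt (s : Spec B ⟶ S) (b : B) : specVal s (linePt s b) gen = b := by
  rw [linePt, specVal_specMk]
  simp [powChar, gen]

lemma eq_linePt (s : Spec B ⟶ S) (x : Over.mk s ⟶ AMonS S NN) : x = linePt s (specVal s x gen) := by
  refine specVal_ext s fun n => ?_
  rw [linePt, specVal_specMk]
  conv_lhs => rw [← toNat_nsmul_gen n, specVal, val_nsmul, map_pow]
  rfl

/-- Composite of an affine point with an equivariant map. -/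
def ev (c₀ : (Magnet.attr (Magnet.MonAct.ofAction a) (AddSubmonoid.multiples (1 : ℤ))).obj (op Y))
    (y : Spec B ⟶ Y.left) (b : B) : Spec B ⟶ X.left :=
  (lift (linePt (y ≫ Y.hom) b) (Over.homMk y : Over.mk (y ≫ Y.hom) ⟶ Y) ≫ c₀.1).left

lemma ev_hom (c₀ : (Magnet.attr (Magnet.MonAct.ofAction a) (AddSubmonoid.multiples (1 : ℤ))).obj (op Y))
    (y : Spec B ⟶ Y.left) (b : B) : ev a c₀ y b ≫ X.hom = y ≫ Y.hom :=
  Over.w (lift (linePt (y ≫ Y.hom) b) (Over.homMk y : Over.mk (y ≫ Y.hom) ⟶ Y) ≫ c₀.1)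

lemma ev_comp (c₀ : (Magnet.attr (Magnet.MonAct.ofAction a) (AddSubmonoid.multiples (1 : ℤ))).obj (op Y))
    {B' : CommRingCat.{u}} (f : B ⟶ B') (y : Spec B ⟶ Y.left) (b : B) :
    Spec.map f ≫ ev a c₀ y b = ev a c₀ (Spec.map f ≫ y) (f b) := by
  let g : Over.mk ((Spec.map f ≫ y) ≫ Y.hom) ⟶ Over.mk (y ≫ Y.hom) :=
    Over.homMk (Spec.map f) (Category.assoc _ _ _).symm
  have e : g ≫ lift (linePt (y ≫ Y.hom) b) (Over.homMk y : Over.mk (y ≫ Y.hom) ⟶ Y) =
      lift (linePt ((Spec.map f ≫ y) ≫ Y.hom) (f b))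
        (Over.homMk (Spec.map f ≫ y) : Over.mk ((Spec.map f ≫ y) ≫ Y.hom) ⟶ Y) := by
    rw [comp_lift]
    congr 1
    rw [eq_linePt _ (g ≫ linePt _ b), specVal_comp _ _ f g rfl, specVal_linePt]
  exact (Category.assoc (Spec.map f) _ c₀.1.left).symm.trans (congrArg (fun t => (t ≫ c₀.1).left) e)

variable (h : ∀ (T : Over S) (m : T ⟶ Magnet.AMonS S NN) (t : T ⟶ Y),
  (∃ n : ℕ, ∀ m' : T ⟶ Magnet.AMonS S NN, m ^ (n + 1) * m' = m ^ (n + 1)) →
    lift m t ≫ γ₁.1 = lift m t ≫ γ₂.1)

include h in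
theorem ev_eq_of_pow_eq_zero (y : Spec B ⟶ Y.left) (b : B) (n : ℕ) (hb : b ^ (n + 1) = 0) :
    ev a γ₁ y b = ev a γ₂ y b := by
  refine congrArg CommaMorphism.left (h _ _ _ ⟨n, fun m' => val_ext fun j => ?_⟩)
  rw [val_mul, val_pow]
  by_cases hj : j = 0
  · subst hj; rw [val_zero, val_zero, _root_.mul_one]
  · have hpos : (j : ℤ).toNat ≠ 0 := fun h0 => hj (by
      rw [← toNat_nsmul_gen j, h0, zero_smul])
    have : val (linePt (y ≫ Y.hom) b) j ^ (n + 1) = 0 := by
      refine (ConcreteCategory.bijective_of_isIso (Scheme.ΓSpecIso B).hom).1 ?_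
      rw [map_pow, map_zero]
      change specVal _ (linePt (y ≫ Y.hom) b) j ^ (n + 1) = 0
      rw [linePt, specVal_specMk]
      change (b ^ (j : ℤ).toNat) ^ (n + 1) = 0
      rw [← pow_mul, mul_comm, pow_mul, hb, zero_pow hpos]
    rw [this, zero_mul]

theorem ev_eq_smul (y : Spec B ⟶ Y.left) (b : B) (s : Bˣ) (hb : ev a γ₁ y b = ev a γ₂ y b) :
    ev a γ₁ y (s * b) = ev a γ₂ y (s * b) := by
  let χ : Multiplicative ℤ →* B :=
    { toFun := fun n => ((s ^ n.toAdd : Bˣ) : B)
      map_one' := by simp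
      map_mul' := fun m n => by simp [zpow_add] }
  let g : Over.mk (y ≫ Y.hom) ⟶ AMonS S ℤ := specMk _ χ
  let t : Over.mk (y ≫ Y.hom) ⟶ Y := Over.homMk y
  have e : lift g (linePt (y ≫ Y.hom) b) ≫ (Magnet.subAct S ℤ (AddSubmonoid.multiples (1 : ℤ))).act =
      linePt (y ≫ Y.hom) (s * b) := by
    rw [Magnet.subAct, MonAct.lift_restrict_act, MonAct.lift_regular_act]
    rw [eq_linePt _ (_ * _), specVal_mul, specVal_linePt]
    congr 2
    rw [specVal, val_map, ← specVal, specVal_specMk]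
    simp [χ, gen]
  have hb' : lift (linePt (y ≫ Y.hom) b) t ≫ γ₁.1 = lift (linePt (y ≫ Y.hom) b) t ≫ γ₂.1 :=
    Over.OverMorphism.ext hb
  have h1 := MonAct.mem_eqvHom_iff γ₁.1 |>.1 γ₁.2 _ g (linePt (y ≫ Y.hom) b) t
  have h2 := MonAct.mem_eqvHom_iff γ₂.1 |>.1 γ₂.2 _ g (linePt (y ≫ Y.hom) b) t
  rw [e] at h1 h2
  rw [hb', ← h2] at h1
  exact congrArg CommaMorphism.left h1

include h in
theorem ev_eq_field (K : Type u) [Field K] [Infinite K] (y : Spec (CommRingCat.of K) ⟶ Y.left) (b : K) :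
    ev a γ₁ y b = ev a γ₂ y b := by
  let cst : CommRingCat.of K ⟶ CommRingCat.of K[X] := CommRingCat.ofHom Polynomial.C
  let Φ₁ := ev a γ₁ (Spec.map cst ≫ y) (Polynomial.X : K[X])
  let Φ₂ := ev a γ₂ (Spec.map cst ≫ y) (Polynomial.X : K[X])
  have w : Φ₁ ≫ X.hom = Φ₂ ≫ X.hom := (ev_hom a γ₁ _ _).trans (ev_hom a γ₂ _ _).symm
  have hev : ∀ (C : CommRingCat.{u}) (φ : CommRingCat.of K[X] ⟶ C) (n : ℕ),
      φ Polynomial.X ^ (n + 1) = 0 → Spec.map φ ≫ Φ₁ = Spec.map φ ≫ Φ₂ := fun C φ n hn => by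
    rw [ev_comp, ev_comp]
    exact ev_eq_of_pow_eq_zero a γ₁ γ₂ h _ _ n hn
  let ev0 : CommRingCat.of K[X] ⟶ CommRingCat.of K := CommRingCat.ofHom (Polynomial.evalRingHom 0)
  let q0 : Spec (CommRingCat.of K[X]) := Spec.map ev0 (IsLocalRing.closedPoint K)
  have hq0 : q0 ∈ agreeSet w := mem_agreeSet w _ (hev _ ev0 0 (by simp [ev0])) _
  have hlc := isLocallyClosed_agreeSet w
  obtain ⟨_, ⟨g, rfl⟩, hg0, hgU⟩ := PrimeSpectrum.isTopologicalBasis_basic_opens.exists_subset_of_mem_open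
    (subset_coborder hq0) hlc.isOpen_coborder
  have hg : g.eval 0 ≠ 0 := fun e => hg0 (by
    change g ∈ Ideal.comap ev0.hom (IsLocalRing.maximalIdeal K)
    simp [ev0, e])
  let loc : CommRingCat.of K[X] ⟶ CommRingCat.of (Localization.Away g) :=
    CommRingCat.ofHom (algebraMap K[X] (Localization.Away g))
  have wloc : (Spec.map loc ≫ Φ₁) ≫ X.hom = (Spec.map loc ≫ Φ₂) ≫ X.hom := by
    rw [Category.assoc, Category.assoc, w]
  have hclosed : IsClosed (agreeSet wloc) := by
    have : agreeSet wloc = Spec.map loc ⁻¹' closure (agreeSet w) := by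
      rw [agreeSet_comp w loc wloc]
      ext x
      refine ⟨fun hx => subset_closure hx, fun hx => ?_⟩
      have hx' : Spec.map loc x ∈ coborder (agreeSet w) :=
        hgU ((PrimeSpectrum.localization_away_comap_range (Localization.Away g) g).le ⟨x, rfl⟩)
      rw [← closure_inter_coborder (s := agreeSet w)]
      exact ⟨hx, hx'⟩
    rw [this]
    exact isClosed_closure.preimage (Spec.map loc).continuous
  let mkQ : ∀ n : ℕ, K[X] →+* K[X] ⧸ Ideal.span {(Polynomial.X : K[X]) ^ (n + 1)} :=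
    fun n => Ideal.Quotient.mk _
  have hX : ∀ n, mkQ n Polynomial.X ^ (n + 1) = 0 := fun n => by
    rw [← map_pow, Ideal.Quotient.eq_zero_iff_mem]
    exact Ideal.subset_span rfl
  have hgu : ∀ n, IsUnit (mkQ n g) := fun n => by
    rw [← Polynomial.X_mul_divX_add g, Polynomial.coeff_zero_eq_eval_zero, map_add, map_mul]
    exact IsNilpotent.isUnit_add_right_of_commute ⟨n + 1, by rw [mul_pow, hX, zero_mul]⟩
      ((IsUnit.mk0 _ hg).map ((mkQ n).comp Polynomial.C)) (Commute.all _ _)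
  let ψ : ∀ n, CommRingCat.of (Localization.Away g) ⟶
      CommRingCat.of (K[X] ⧸ Ideal.span {(Polynomial.X : K[X]) ^ (n + 1)}) := fun n =>
    CommRingCat.ofHom (IsLocalization.Away.lift g (hgu n))
  have hψ : ∀ n, loc ≫ ψ n = CommRingCat.ofHom (mkQ n) := fun n =>
    CommRingCat.hom_ext (IsLocalization.Away.lift_comp g (hgu n))
  have hA : Spec.map loc ≫ Φ₁ = Spec.map loc ≫ Φ₂ := by
    refine eq_of_jointlyInjective wloc hclosed _ ψ (fun n => ?_) fun x hx => ?_
    · rw [← Spec.map_comp_assoc, ← Spec.map_comp_assoc, hψ]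
      exact hev _ _ n (hX n)
    · obtain ⟨c, s, rfl⟩ := IsLocalization.exists_mk'_eq (Submonoid.powers g) x
      have hc : c = 0 := by
        by_contra hc
        have h1 : mkQ c.natDegree c = 0 := by
          have h2 := hx c.natDegree
          have h3 := congrArg (ψ c.natDegree).hom (IsLocalization.mk'_spec (Localization.Away g) c s)
          rw [map_mul] at h3
          change _ = (loc ≫ ψ c.natDegree).hom c at h3
          rw [hψ] at h3
          erw [h2, zero_mul] at h3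
          exact h3.symm
        rw [Ideal.Quotient.eq_zero_iff_dvd] at h1
        have h4 := Polynomial.natDegree_le_of_dvd h1 hc
        rw [Polynomial.natDegree_X_pow] at h4
        omega
      rw [hc, IsLocalization.mk'_zero]
  have hpt : ∀ t : K, g.eval t ≠ 0 → ev a γ₁ y t = ev a γ₂ y t := by
    intro t ht
    have hu : IsUnit (Polynomial.evalRingHom t g) := IsUnit.mk0 _ ht
    let e : CommRingCat.of (Localization.Away g) ⟶ CommRingCat.of K :=
      CommRingCat.ofHom (IsLocalization.Away.lift g hu)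
    have he : loc ≫ e = CommRingCat.ofHom (Polynomial.evalRingHom t) :=
      CommRingCat.hom_ext (IsLocalization.Away.lift_comp g hu)
    have hid : Spec.map (CommRingCat.ofHom (Polynomial.evalRingHom t)) ≫ Spec.map cst ≫ y = y := by
      rw [← Spec.map_comp_assoc]
      have : cst ≫ CommRingCat.ofHom (Polynomial.evalRingHom t) = 𝟙 _ :=
        CommRingCat.hom_ext (RingHom.ext fun c => by simp [cst])
      rw [this, Spec.map_id, Category.id_comp]
    have h5 := congrArg (Spec.map e ≫ ·) hA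
    simp only [← Spec.map_comp_assoc, he] at h5
    rw [ev_comp, ev_comp, hid] at h5
    simpa using h5
  by_cases hb : b = 0
  · exact ev_eq_of_pow_eq_zero a γ₁ γ₂ h y b 0 (by simp [hb])
  · classical
    obtain ⟨z, hz⟩ := Infinite.exists_notMem_finset (insert (0 : K) g.roots.toFinset)
    simp only [Finset.mem_insert, Multiset.mem_toFinset, not_or, Polynomial.mem_roots', not_and] at hz
    have hgz : g.eval z ≠ 0 := hz.2 fun e => hg (by simp [e])
    have := ev_eq_smul a γ₁ γ₂ y z (Units.mk0 (b / z) (div_ne_zero hb hz.1)) (hpt z hgz)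
    simpa [div_mul_cancel₀ b hz.1] using this

include h in
theorem ev_eq (y : Spec B ⟶ Y.left) (b : B) : ev a γ₁ y b = ev a γ₂ y b := by
  let cst : B ⟶ CommRingCat.of B[X] := CommRingCat.ofHom Polynomial.C
  let Φ₁ := ev a γ₁ (Spec.map cst ≫ y) (Polynomial.X : B[X])
  let Φ₂ := ev a γ₂ (Spec.map cst ≫ y) (Polynomial.X : B[X])
  have w : Φ₁ ≫ X.hom = Φ₂ ≫ X.hom := (ev_hom a γ₁ _ _).trans (ev_hom a γ₂ _ _).symm
  have huniv : agreeSet w = Set.univ := by
    refine Set.eq_univ_of_forall fun q => ?_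
    let P : Scheme.{u} := Spec (CommRingCat.of B[X])
    let K := AlgebraicClosure (P.residueField q)
    let f : Spec (CommRingCat.of K) ⟶ P :=
      Spec.map (CommRingCat.ofHom (algebraMap (P.residueField q) K)) ≫ P.fromSpecResidueField q
    obtain ⟨χ, hχ⟩ : ∃ χ, Spec.map χ = f := ⟨_, Spec.map_preimage f⟩
    have hq : f (IsLocalRing.closedPoint K) = q := by
      simp only [f]
      rw [Scheme.Hom.comp_apply, Scheme.fromSpecResidueField_apply]
    rw [← hq]
    refine mem_agreeSet w f ?_ _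
    rw [← hχ, ev_comp, ev_comp]
    exact ev_eq_field a γ₁ γ₂ h K _ _
  have hΦ : Φ₁ = Φ₂ := by
    refine eq_of_jointlyInjective w (huniv ▸ isClosed_univ)
      (fun n : ℕ => CommRingCat.of (B[X] ⧸ Ideal.span {(Polynomial.X : B[X]) ^ (n + 1)}))
      (fun n => CommRingCat.ofHom (Ideal.Quotient.mk _)) (fun n => ?_) fun x hx => ?_
    · rw [ev_comp, ev_comp]
      refine ev_eq_of_pow_eq_zero a γ₁ γ₂ h _ _ n ?_
      change Ideal.Quotient.mk _ Polynomial.X ^ (n + 1) = 0
      rw [← map_pow, Ideal.Quotient.eq_zero_iff_mem]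
      exact Ideal.subset_span rfl
    · ext i
      have h1 := hx i
      change Ideal.Quotient.mk _ x = 0 at h1
      rw [Ideal.Quotient.eq_zero_iff_dvd] at h1
      simpa using Polynomial.X_pow_dvd_iff.1 h1 i (Nat.lt_succ_self i)
  let e : CommRingCat.of B[X] ⟶ B := CommRingCat.ofHom (Polynomial.evalRingHom b)
  have hid : Spec.map e ≫ Spec.map cst ≫ y = y := by
    rw [← Spec.map_comp_assoc]
    have : cst ≫ e = 𝟙 _ := CommRingCat.hom_ext (RingHom.ext fun c => by simp [cst, e])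
    rw [this, Spec.map_id, Category.id_comp]
  have h5 : Spec.map e ≫ Φ₁ = Spec.map e ≫ Φ₂ := congrArg (Spec.map e ≫ ·) hΦ
  rw [ev_comp, ev_comp, hid] at h5
  simpa [e] using h5

include h in
theorem affPt_eq (P : Spec B ⟶ (AMonS S NN ⊗ Y).left) : P ≫ γ₁.1.left = P ≫ γ₂.1.left := by
  let y := P ≫ (snd (AMonS S NN) Y).left
  let P' : Over.mk (y ≫ Y.hom) ⟶ AMonS S NN ⊗ Y := Over.homMk P
    ((congrArg (P ≫ ·) (Over.w (snd (AMonS S NN) Y))).symm.trans (Category.assoc _ _ _).symm)
  have e : lift (linePt (y ≫ Y.hom) (specVal (y ≫ Y.hom) (P' ≫ fst _ _) gen))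
      (Over.homMk y : Over.mk (y ≫ Y.hom) ⟶ Y) = P' := by
    refine (congrArg₂ lift ?_ ?_).trans (lift_comp_fst_snd P')
    · exact (eq_linePt _ _).symm
    · apply Over.OverMorphism.ext
      rfl
  have h1 := ev_eq a γ₁ γ₂ h y (specVal (y ≫ Y.hom) (P' ≫ fst _ _) gen)
  exact ((congrArg (fun t => (t ≫ γ₁.1).left) e).symm.trans h1).trans (congrArg (fun t => (t ≫ γ₂.1).left) e)

include h in
theorem attr_line_ext : γ₁ = γ₂ :=
  Subtype.ext (Over.OverMorphism.ext (Scheme.Cover.hom_ext (AMonS S NN ⊗ Y).left.affineCover _ _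
    fun _ => affPt_eq a γ₁ γ₂ h _))

end Line

end Groth.Misc7.Mag

end
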