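import Mathlib
import Groth.Prelude.Def_Magnet2

/-!
# Points of diagonalizable monoid schemes over an arbitrary base
-/

set_option autoImplicit false
universe u

open CategoryTheory CategoryTheory.Limits MonoidalCategory CartesianMonoidalCategory MonObj AlgebraicGeometry Opposite
open Magnet

noncomputable section

namespace Groth.Misc7.Mag

/-- Global sections as an algebra over `ULift ℤ`. -/
@[instance_reducible]
def algΓ (X : Scheme.{u}) : Algebra (ULift.{u} ℤ) Γ(X, ⊤) :=
  ULift.algebra' ℤ Γ(X, ⊤)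

attribute [local instance] algΓ

lemma ringHom_uliftInt_ext {R : Type u} [CommRing R] (f g : (ULift.{u} ℤ) →+* R) : f = g := by
  ext ⟨n⟩
  exact RingHom.congr_fun (RingHom.ext_int (f.comp (ULift.ringEquiv.symm : ℤ ≃+* (ULift.{u} ℤ)).toRingHom)
    (g.comp (ULift.ringEquiv.symm : ℤ ≃+* (ULift.{u} ℤ)).toRingHom)) n

variable {S : Scheme.{u}} {N M : Type} [AddCommMonoid N] [AddCommMonoid M]

/-- The morphism to `Spec ℤ[N]` of a point. -/
abbrev ptFst {T : Over S} (x : T ⟶ AMonS S N) :
    T.left ⟶ Spec (CommRingCat.of (MonoidAlgebra (ULift.{u} ℤ) (Multiplicative N))) :=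
  x.left ≫ pullback.fst (AMon (ULift.{u} ℤ) N).hom (Limits.IsTerminal.from specULiftZIsTerminal S)

/-- The comorphism of a point of `A(N)_S`. -/
def ptVal {T : Over S} (x : T ⟶ AMonS S N) :
    MonoidAlgebra (ULift.{u} ℤ) (Multiplicative N) →ₐ[ULift.{u} ℤ] Γ(T.left, ⊤) where
  toRingHom := (ptFst x).appTop.hom.comp
    (Scheme.ΓSpecIso (CommRingCat.of (MonoidAlgebra (ULift.{u} ℤ) (Multiplicative N)))).inv.hom
  commutes' r := RingHom.congr_fun (ringHom_uliftInt_ext
    (((ptFst x).appTop.hom.comp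
      (Scheme.ΓSpecIso (CommRingCat.of (MonoidAlgebra (ULift.{u} ℤ) (Multiplicative N)))).inv.hom).comp
      (algebraMap (ULift.{u} ℤ) (MonoidAlgebra (ULift.{u} ℤ) (Multiplicative N))))
    (algebraMap (ULift.{u} ℤ) Γ(T.left, ⊤))) r

/-- `Spec` of the global sections, over `ℤ`. -/
abbrev affΓ (T : Over (Spec (CommRingCat.of (ULift.{u} ℤ)))) : Over (Spec (CommRingCat.of (ULift.{u} ℤ))) :=
  (Spec (CommRingCat.of Γ(T.left, ⊤))).asOver (Spec (CommRingCat.of (ULift.{u} ℤ)))

/-- The canonical map to `Spec` of global sections, over `ℤ`. -/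
def toΓ (T : Over (Spec (CommRingCat.of (ULift.{u} ℤ)))) : T ⟶ affΓ T :=
  Over.homMk T.left.toSpecΓ (specULiftZIsTerminal.hom_ext _ _)

/-- The point with a given comorphism. -/
def ptMk (T : Over S)
    (a : WithConv (MonoidAlgebra (ULift.{u} ℤ) (Multiplicative N) →ₐ[ULift.{u} ℤ] Γ(T.left, ⊤))) :
    T ⟶ AMonS S N :=
  (Over.mapPullbackAdj (Limits.IsTerminal.from specULiftZIsTerminal S)).homEquiv T (AMon (ULift.{u} ℤ) N)
    (toΓ ((Over.map (Limits.IsTerminal.from specULiftZIsTerminal S)).obj T) ≫ Spec.mapMulEquiv a)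

lemma ptMk_mul (T : Over S)
    (a b : WithConv (MonoidAlgebra (ULift.{u} ℤ) (Multiplicative N) →ₐ[ULift.{u} ℤ] Γ(T.left, ⊤))) :
    ptMk T (a * b) = ptMk T a * ptMk T b := by
  simp only [ptMk, map_mul, MonObj.comp_mul, Adjunction.homEquiv_unit]
  rw [Functor.map_mul, MonObj.comp_mul]

lemma ptMk_fst (T : Over S)
    (a : WithConv (MonoidAlgebra (ULift.{u} ℤ) (Multiplicative N) →ₐ[ULift.{u} ℤ] Γ(T.left, ⊤))) :
    ptFst (ptMk T a) = T.left.toSpecΓ ≫ Spec.map (CommRingCat.ofHom a.ofConv.toRingHom) := by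
  have h : ∀ x : T ⟶ AMonS S N, ptFst x =
      (((Over.mapPullbackAdj (Limits.IsTerminal.from specULiftZIsTerminal S)).homEquiv T
        (AMon (ULift.{u} ℤ) N)).symm x).left := fun x => by
    simp [ptFst, Adjunction.homEquiv_counit]
    rfl
  rw [h, ptMk, Equiv.symm_apply_apply]
  rfl

lemma ptVal_ptMk (T : Over S)
    (a : WithConv (MonoidAlgebra (ULift.{u} ℤ) (Multiplicative N) →ₐ[ULift.{u} ℤ] Γ(T.left, ⊤))) :
    ptVal (ptMk T a) = a.ofConv := by
  apply AlgHom.coe_ringHom_injective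
  show (ptFst (ptMk T a)).appTop.hom.comp _ = _
  rw [ptMk_fst, Scheme.Hom.comp_appTop, ← CommRingCat.hom_comp, Scheme.toSpecΓ_appTop,
    ← Category.assoc, ← Scheme.ΓSpecIso_inv_naturality, Category.assoc, Iso.inv_hom_id,
    Category.comp_id]
  rfl

lemma ptMk_ptVal {T : Over S} (x : T ⟶ AMonS S N) : ptMk T (WithConv.toConv (ptVal x)) = x := by
  apply Over.OverMorphism.ext
  apply pullback.hom_ext
  · show ptFst _ = ptFst _
    rw [ptMk_fst]
    show T.left.toSpecΓ ≫ Spec.map (_ ≫ _) = _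
    rw [Spec.map_comp, ← Scheme.toSpecΓ_naturality_assoc, ← SpecMap_ΓSpecIso_hom,
      ← Spec.map_comp, Iso.inv_hom_id, Spec.map_id, Category.comp_id]
  · exact (Over.w (ptMk T _)).trans (Over.w x).symm

lemma ptVal_mul {T : Over S} (x y : T ⟶ AMonS S N) :
    ptVal (x * y) = (WithConv.toConv (ptVal x) * WithConv.toConv (ptVal y)).ofConv := by
  conv_lhs => rw [← ptMk_ptVal x, ← ptMk_ptVal y, ← ptMk_mul, ptVal_ptMk]

/-- The value of a point on a character. -/
def val {T : Over S} (x : T ⟶ AMonS S N) (n : N) : Γ(T.left, ⊤) :=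
  ptVal x (MonoidAlgebra.single (Multiplicative.ofAdd n) 1)

lemma val_mul {T : Over S} (x y : T ⟶ AMonS S N) (n : N) : val (x * y) n = val x n * val y n := by
  rw [val, ptVal_mul, AlgHom.convMul_def]
  simp [val]

lemma val_ext {T : Over S} {x y : T ⟶ AMonS S N} (h : ∀ n, val x n = val y n) : x = y := by
  rw [← ptMk_ptVal x, ← ptMk_ptVal y]
  congr 2
  apply MonoidAlgebra.algHom_ext'
  all_goals first
    | exact MonoidHom.ext fun n => h n.toAdd
    | exact AlgHom.coe_ringHom_injective (ringHom_uliftInt_ext _ _)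

lemma val_comp {T T' : Over S} (g : T' ⟶ T) (x : T ⟶ AMonS S N) (n : N) :
    val (g ≫ x) n = g.left.appTop (val x n) := by
  simp only [val, ptVal, Over.comp_left, Category.assoc, Scheme.Hom.comp_appTop]
  rfl

lemma val_zero {T : Over S} (x : T ⟶ AMonS S N) : val x 0 = 1 := by
  rw [val, ofAdd_zero]
  exact map_one _

lemma val_add {T : Over S} (x : T ⟶ AMonS S N) (m n : N) : val x (m + n) = val x m * val x n := by
  rw [val, val, val, ← map_mul, MonoidAlgebra.single_mul_single, ofAdd_add, one_mul (1 : ULift.{u} ℤ)]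

lemma val_nsmul {T : Over S} (x : T ⟶ AMonS S N) (n : N) (j : ℕ) : val x (j • n) = val x n ^ j := by
  induction j with
  | zero => rw [zero_smul, val_zero, pow_zero]
  | succ j ih => rw [succ_nsmul, val_add, ih, pow_succ]

lemma val_pow {T : Over S} (x : T ⟶ AMonS S N) (j : ℕ) (n : N) : val (x ^ (j + 1)) n = val x n ^ (j + 1) := by
  induction j with
  | zero => simp
  | succ j ih => rw [_root_.pow_succ, val_mul, ih]; exact (_root_.pow_succ _ _).symm

/-- A point with prescribed values on characters. -/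
def mk (T : Over S) (χ : Multiplicative N →* Γ(T.left, ⊤)) : T ⟶ AMonS S N :=
  ptMk T (WithConv.toConv (MonoidAlgebra.lift (ULift.{u} ℤ) _ (Multiplicative N) χ))

lemma val_mk (T : Over S) (χ : Multiplicative N →* Γ(T.left, ⊤)) (n : N) :
    val (mk T χ) n = χ (Multiplicative.ofAdd n) := by
  rw [val, mk, ptVal_ptMk]
  simp

lemma val_map {T : Over S} (x : T ⟶ AMonS S M) (f : N →+ M) (n : N) :
    val (x ≫ AMonS.map S f) n = val x (f n) := by
  have e : ptFst (x ≫ AMonS.map S f) = ptFst x ≫ Spec.map (CommRingCat.ofHom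
      (MonoidAlgebra.mapDomainBialgHom (ULift.{u} ℤ) (AddMonoidHom.toMultiplicative f)).toAlgHom.toRingHom) := by
    show (x.left ≫ (AMonS.map S f).left) ≫ _ = (x.left ≫ _) ≫ _
    rw [Category.assoc, Category.assoc]
    congr 1
    exact pullback.lift_fst _ _ _
  show (ptFst (x ≫ AMonS.map S f)).appTop.hom ((Scheme.ΓSpecIso _).inv.hom _) = _
  rw [e, Scheme.Hom.comp_appTop, CommRingCat.hom_comp, RingHom.comp_apply]
  refine congrArg (ptFst x).appTop.hom ?_
  refine (ConcreteCategory.congr_hom (Scheme.ΓSpecIso_inv_naturality (CommRingCat.ofHom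
      (MonoidAlgebra.mapDomainBialgHom (ULift.{u} ℤ) (AddMonoidHom.toMultiplicative f)).toAlgHom.toRingHom))
    (MonoidAlgebra.single (Multiplicative.ofAdd n) (1 : ULift.{u} ℤ))).symm.trans ?_
  refine congrArg (Scheme.ΓSpecIso _).inv.hom ?_
  exact (MonoidAlgebra.mapDomain_single).trans rfl

section Spec

variable {B : CommRingCat.{u}} (s : Spec B ⟶ S)

/-- Values of a point over an affine scheme, as elements of the ring. -/
def specVal (x : Over.mk s ⟶ AMonS S N) (n : N) : B := (Scheme.ΓSpecIso B).hom (val x n)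

lemma specVal_ext {x y : Over.mk s ⟶ AMonS S N} (h : ∀ n, specVal s x n = specVal s y n) : x = y :=
  val_ext fun n => (ConcreteCategory.bijective_of_isIso (Scheme.ΓSpecIso B).hom).1 (h n)

/-- A point over an affine scheme with prescribed values. -/
def specMk (χ : Multiplicative N →* B) : Over.mk s ⟶ AMonS S N :=
  mk (Over.mk s) ((Scheme.ΓSpecIso B).inv.hom.toMonoidHom.comp χ)

lemma specVal_specMk (χ : Multiplicative N →* B) (n : N) :
    specVal s (specMk s χ) n = χ (Multiplicative.ofAdd n) := by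
  rw [specVal, specMk, val_mk]
  exact Iso.inv_hom_id_apply (Scheme.ΓSpecIso B) _

lemma specVal_mul (x y : Over.mk s ⟶ AMonS S N) (n : N) :
    specVal s (x * y) n = specVal s x n * specVal s y n := by
  rw [specVal, val_mul, map_mul]; rfl

lemma specVal_comp {B' : CommRingCat.{u}} (s' : Spec B' ⟶ S) (f : B ⟶ B') (g : Over.mk s' ⟶ Over.mk s)
    (hg : g.left = Spec.map f) (x : Over.mk s ⟶ AMonS S N) (n : N) :
    specVal s' (g ≫ x) n = f (specVal s x n) := by
  rw [specVal, val_comp, hg]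
  exact ConcreteCategory.congr_hom (Scheme.ΓSpecIso_naturality f) (val x n)

end Spec

end Groth.Misc7.Mag

end
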